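import Cfsg.Agent.Lib.PrimitivePart.Data
import Cfsg.Agent.S2904

/-!
Large primitive parts of `q ^ e - 1`.
-/

namespace CfsgLib.PrimitivePart

open Polynomial Cfsg.Agent.S2904

lemma dvd_stripOne {m g : ℕ} : ∀ (f x : ℕ), m ∣ x → m.Coprime g → m ∣ stripOne g f x
  | 0, x, h, _ => h
  | f + 1, x, h, hc => by
    rw [stripOne]
    split_ifs
    · exact h
    · refine dvd_stripOne f _ ?_ hc
      have h1 : m.Coprime (Nat.gcd x g) := hc.coprime_dvd_right (Nat.gcd_dvd_right x g)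
      refine h1.dvd_of_dvd_mul_left ?_
      rwa [Nat.mul_div_cancel' (Nat.gcd_dvd_left x g)]

lemma dvd_stripTo {m q e : ℕ} (h : m ∣ q ^ e - 1) : ∀ k,
    (∀ i, 1 ≤ i → i ≤ k → m.Coprime (q ^ i - 1)) → m ∣ stripTo q e k
  | 0, _ => h
  | k + 1, hc => dvd_stripOne _ _ (dvd_stripTo h k fun i h1 h2 => hc i h1 (by omega))
      (hc (k + 1) (by omega) le_rfl)

lemma le_count_of_many {e : ℕ} : ∀ k need, many e k need = true →
    need ≤ ((Finset.range k).filter fun a => e.Coprime a).card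
  | _, 0, _ => Nat.zero_le _
  | 0, _ + 1, h => by simp [many] at h
  | k + 1, need + 1, h => by
    rw [many] at h
    rw [Finset.range_add_one, Finset.filter_insert]
    split_ifs at h with hk
    · have hk' : e.Coprime k := by simpa [beq_iff_eq] using hk
      rw [if_pos hk', Finset.card_insert_of_notMem (by simp)]
      exact Nat.succ_le_succ (le_count_of_many k need h)
    · have hk' : ¬ e.Coprime k := by simpa [beq_iff_eq] using hk
      rw [if_neg hk']
      exact le_count_of_many k (need + 1) h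

lemma phiB_eq (e : ℕ) : phiB e = e.totient := by
  rw [phiB, Nat.totient_eq_card_coprime, Finset.card_def, Finset.filter_val, Finset.range_val,
    ← Multiset.countP_eq_card_filter, Multiset.range, Multiset.coe_countP]
  exact List.countP_congr fun a _ => by simp [Nat.Coprime]

lemma totient_sq_ge (n : ℕ) : 0 < n → n ≤ 2 * n.totient ^ 2 ∧ (Odd n → n ≤ n.totient ^ 2) := by
  induction n using Nat.recOnPosPrimePosCoprime with
  | prime_pow p k hp hk =>
    intro _
    rw [Nat.totient_prime_pow hp hk]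
    obtain ⟨j, rfl⟩ : ∃ j, k = j + 1 := ⟨k - 1, by omega⟩
    rw [Nat.add_sub_cancel]
    have h2 := hp.two_le
    have hj : 1 ≤ p ^ j := Nat.one_le_pow _ _ hp.pos
    have hpj : p ^ j ≤ p ^ j * p ^ j := Nat.le_mul_of_pos_left _ (by omega)
    rcases hp.eq_two_or_odd' with rfl | hodd
    · refine ⟨?_, fun h => absurd h (by simp [Nat.odd_pow_iff])⟩
      rw [pow_succ]
      nlinarith
    · have h3 : p ≤ (p - 1) ^ 2 := by
        obtain ⟨c, rfl⟩ := hodd
        rw [show 2 * c + 1 - 1 = 2 * c by omega]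
        have : 1 ≤ c := by omega
        nlinarith
      have : p ^ (j + 1) ≤ (p ^ j * (p - 1)) ^ 2 := by
        rw [pow_succ, mul_pow]
        exact Nat.mul_le_mul (by rw [sq]; exact hpj) h3
      exact ⟨by omega, fun _ => this⟩
  | zero => intro h; exact absurd h (lt_irrefl 0)
  | one => intro _; simp
  | coprime a b ha hb hab iha ihb =>
    intro _
    obtain ⟨a1, a2⟩ := iha (by omega)
    obtain ⟨b1, b2⟩ := ihb (by omega)
    rw [Nat.totient_mul hab, mul_pow]
    refine ⟨?_, fun h => Nat.mul_le_mul (a2 (Nat.odd_mul.mp h).1) (b2 (Nat.odd_mul.mp h).2)⟩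
    rcases Nat.even_or_odd a with he | ho
    · have hbo : Odd b := by
        rcases Nat.even_or_odd b with hb2 | hb2
        · exact absurd (Nat.eq_one_of_dvd_coprimes hab he.two_dvd hb2.two_dvd) (by norm_num)
        · exact hb2
      have := b2 hbo
      calc a * b ≤ (2 * a.totient ^ 2) * b.totient ^ 2 := Nat.mul_le_mul a1 this
        _ = _ := by ring
    · calc a * b ≤ a.totient ^ 2 * (2 * b.totient ^ 2) := Nat.mul_le_mul (a2 ho) b1
        _ = _ := by ring

lemma pow_beats (f : ℕ) (hf : 55 ≤ f) : 144 * f ^ 8 < 2 ^ f := by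
  induction f, hf using Nat.le_induction with
  | base => norm_num
  | succ f hf ih =>
    have h1 : (f + 1) ^ 8 ≤ 2 * f ^ 8 := by
      have h2 : 55 * (f + 1) ≤ 56 * f := by omega
      have h3 : (55 * (f + 1)) ^ 8 ≤ (56 * f) ^ 8 := Nat.pow_le_pow_left h2 8
      rw [mul_pow, mul_pow] at h3
      have h4 : (56 : ℕ) ^ 8 ≤ 2 * 55 ^ 8 := by norm_num
      have h5 : 55 ^ 8 * (f + 1) ^ 8 ≤ 55 ^ 8 * (2 * f ^ 8) := by
        calc 55 ^ 8 * (f + 1) ^ 8 ≤ 56 ^ 8 * f ^ 8 := h3
          _ ≤ 2 * 55 ^ 8 * f ^ 8 := Nat.mul_le_mul_right _ h4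
          _ = _ := by ring
      exact Nat.le_of_mul_le_mul_left h5 (by norm_num)
    rw [pow_succ 2 f]
    omega

lemma sq_phiVal_two {e : ℕ} (he : 3 ≤ e) : 2 ^ e.totient ≤ phiVal e 2 ^ 2 := by
  obtain ⟨r, hr, hre, hr2⟩ : ∃ r, r.Prime ∧ r ∣ e ∧ (r = 2 → r * r ∣ e) := by
    rcases Nat.eq_two_pow_or_exists_odd_prime_and_dvd e with ⟨k, rfl⟩ | ⟨r, hr, hre, hodd⟩
    · have hk : 2 ≤ k := by
        by_contra h
        interval_cases k <;> omega
      exact ⟨2, Nat.prime_two, dvd_pow_self 2 (by omega), fun _ => by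
        rw [← pow_two]; exact pow_dvd_pow 2 hk⟩
    · exact ⟨r, hr, hre, fun h => absurd hodd (by rw [h]; decide)⟩
  obtain ⟨m, rfl⟩ := hre
  have hm0 : 0 < m := Nat.pos_of_ne_zero fun h => by simp [h] at he
  have hlow : (2 ^ r - 1) ^ m.totient ≤ ((cyclotomic m ℤ).eval ((2 : ℤ) ^ r)).natAbs := by
    rcases Nat.lt_or_ge 1 m with h1 | h1
    · have := sub_one_pow_totient_lt_natAbs_cyclotomic_eval (n := m) (q := 2 ^ r) h1
        (Nat.one_lt_two_pow hr.ne_zero).ne'
      push_cast at this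
      exact this.le
    · obtain rfl : m = 1 := by omega
      have h2 : (1 : ℕ) ≤ 2 ^ r := Nat.one_le_two_pow
      rw [cyclotomic_one, eval_sub, eval_X, eval_one, Nat.totient_one, pow_one,
        show ((2 : ℤ) ^ r - 1) = ((2 ^ r - 1 : ℕ) : ℤ) by push_cast [h2]; ring, Int.natAbs_natCast]
  have h4 : 4 ≤ 2 ^ r := by
    calc 4 = 2 ^ 2 := by norm_num
      _ ≤ 2 ^ r := Nat.pow_le_pow_right (by norm_num) hr.two_le
  by_cases hrm : r ∣ m
  · have hmul := congrArg (eval (2 : ℤ)) (cyclotomic_expand_eq_cyclotomic hr hrm ℤ)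
    rw [expand_eval, mul_comm m r] at hmul
    rw [hmul] at hlow
    rw [Nat.totient_mul_of_prime_of_dvd hr hrm, pow_mul]
    refine le_trans ?_ (Nat.pow_le_pow_left hlow 2)
    rw [← pow_mul ((2 : ℕ) ^ r - 1), mul_comm m.totient 2, pow_mul ((2 : ℕ) ^ r - 1)]
    refine Nat.pow_le_pow_left ?_ _
    calc 2 ^ r ≤ 2 * (2 ^ r - 1) := by omega
      _ ≤ (2 ^ r - 1) * (2 ^ r - 1) := Nat.mul_le_mul_right _ (by omega)
      _ = _ := (sq _).symm
  · have hmul := congrArg (eval (2 : ℤ)) (cyclotomic_expand_eq_cyclotomic_mul hr hrm ℤ)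
    rw [expand_eval, eval_mul, mul_comm m r] at hmul
    rw [hmul, Int.natAbs_mul] at hlow
    have hup : ((cyclotomic m ℤ).eval (2 : ℤ)).natAbs ≤ 3 ^ m.totient := by
      have h2 := cyclotomic_eval_le_add_one_pow_totient (q := (2 : ℝ)) (by norm_num) m
      have h3 := cyclotomic_nonneg m (R := ℤ) (x := 2) (by norm_num)
      rw [show ((2 : ℝ)) = Int.castRingHom ℝ 2 by simp, cyclotomic.eval_apply] at h2
      simp only [eq_intCast, Int.cast_ofNat] at h2
      norm_num at h2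
      have h4 : (cyclotomic m ℤ).eval 2 ≤ 3 ^ m.totient := by exact_mod_cast h2
      zify
      rw [abs_of_nonneg h3]
      exact h4
    have hr3 : 3 ≤ r := by
      by_contra h
      have hr' : r = 2 := by have := hr.two_le; omega
      obtain ⟨c, hc⟩ := hr2 hr'
      exact hrm ⟨c, Nat.eq_of_mul_eq_mul_left hr.pos (by rw [hc, mul_assoc])⟩
    have h1 : (2 ^ r - 1) ^ m.totient ≤ phiVal (r * m) 2 * 3 ^ m.totient :=
      hlow.trans (Nat.mul_le_mul_left _ hup)
    have key : 9 * 2 ^ (r - 1) ≤ (2 ^ r - 1) ^ 2 := by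
      obtain ⟨s, rfl⟩ : ∃ s, r = s + 3 := ⟨r - 3, by omega⟩
      rw [show s + 3 - 1 = s + 2 by omega, pow_add, pow_add]
      have hs : 1 ≤ 2 ^ s := Nat.one_le_two_pow
      obtain ⟨u, hu⟩ : ∃ u, 2 ^ s = u + 1 := ⟨2 ^ s - 1, by omega⟩
      rw [hu, show (u + 1) * 2 ^ 3 - 1 = 8 * u + 7 by omega]
      nlinarith
    rw [Nat.totient_mul (hr.coprime_iff_not_dvd.mpr hrm), Nat.totient_prime hr]
    refine Nat.le_of_mul_le_mul_left ?_ (pow_pos (show 0 < 9 by norm_num) m.totient)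
    calc 9 ^ m.totient * 2 ^ ((r - 1) * m.totient)
        = (9 * 2 ^ (r - 1)) ^ m.totient := by rw [mul_pow, pow_mul]
      _ ≤ ((2 ^ r - 1) ^ 2) ^ m.totient := Nat.pow_le_pow_left key _
      _ = ((2 ^ r - 1) ^ m.totient) ^ 2 := by rw [← pow_mul, ← pow_mul, mul_comm]
      _ ≤ (phiVal (r * m) 2 * 3 ^ m.totient) ^ 2 := Nat.pow_le_pow_left h1 2
      _ = 9 ^ m.totient * phiVal (r * m) 2 ^ 2 := by
          rw [mul_pow, ← pow_mul 3, mul_comm m.totient 2, pow_mul, mul_comm]
          norm_num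

/-- The primitive part is large, with thirteen exceptions. -/
theorem exists_large_part {q e : ℕ} (hq : 2 ≤ q) (he : 3 ≤ e) (hexc : (q, e) ∉ excList) :
    ∃ m : ℕ, m ∣ q ^ e - 1 ∧ (∀ i : ℕ, 1 ≤ i → i < e → Nat.Coprime m (q ^ i - 1)) ∧
      3 * e + 1 ≤ m := by
  by_contra hcon
  set P := phiVal e q with hP
  set G := Nat.gcd P e with hG
  have hP1 : q - 1 < P := sub_one_lt_natAbs_cyclotomic_eval (n := e) (q := q) (by omega) (by omega)
  have hPdvd : P ∣ q ^ e - 1 := by
    have h := eval_dvd (x := (q : ℤ)) (cyclotomic.dvd_X_pow_sub_one e ℤ)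
    rw [eval_sub, eval_pow, eval_X, eval_one] at h
    rw [hP, phiVal, ← Int.natCast_dvd_natCast, Int.natAbs_dvd]
    have : ((q ^ e - 1 : ℕ) : ℤ) = (q : ℤ) ^ e - 1 := by
      rw [Nat.cast_sub (Nat.one_le_pow _ _ (by omega))]; push_cast; rfl
    rwa [this]
  have hGdvd : G ∣ P := Nat.gcd_dvd_left _ _
  have hm0P : P / G ∣ P := Nat.div_dvd_of_dvd hGdvd
  have hcop : ∀ i, 1 ≤ i → i < e → Nat.Coprime (P / G) (q ^ i - 1) := by
    intro i hi1 hie
    refine Nat.coprime_of_dvd' fun s hs hsm hsi => ?_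
    exfalso
    have hsP : s ∣ P := hsm.trans hm0P
    haveI := Fact.mk hs
    by_cases hse : s ∣ e
    · have hsG : s ∣ G := Nat.dvd_gcd hsP hse
      refine not_sq_dvd (by omega) he hs hse hsP ?_
      rw [pow_two, ← hP, ← Nat.mul_div_cancel' hGdvd]
      exact mul_dvd_mul hsG hsm
    · have hp := primitive_of_root hs (by omega) hsP hse
      rw [← ZMod.natCast_eq_zero_iff, Nat.cast_sub (Nat.one_le_pow _ _ (by omega)), Nat.cast_pow,
        Nat.cast_one, sub_eq_zero] at hsi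
      exact absurd (Nat.le_of_dvd (by omega) (hp.dvd_of_pow_eq_one _ hsi)) (by omega)
  have hsmall : P / G ≤ 3 * e := by
    by_contra h
    exact hcon ⟨P / G, hm0P.trans hPdvd, hcop, by omega⟩
  have hPle : P ≤ 3 * e * e := by
    calc P = G * (P / G) := (Nat.mul_div_cancel' hGdvd).symm
      _ ≤ e * (3 * e) := Nat.mul_le_mul (Nat.le_of_dvd (by omega) (Nat.gcd_dvd_right _ _)) hsmall
      _ = _ := by ring
  set f := e.totient with hf
  have hf2 : 2 ≤ f := by
    have hpos := Nat.totient_pos.mpr (show 0 < e by omega)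
    have := Nat.totient_even (show 2 < e by omega)
    rw [← hf] at this hpos
    obtain ⟨c, hc⟩ := this
    omega
  have hbig : 3 ≤ q → (q - 1) ^ f < P := fun _ =>
    sub_one_pow_totient_lt_natAbs_cyclotomic_eval (n := e) (q := q) (by omega) (by omega)
  have hPsq : 2 ^ f ≤ P ^ 2 := by
    rcases Nat.lt_or_ge q 3 with h | h
    · obtain rfl : q = 2 := by omega
      exact sq_phiVal_two he
    · calc 2 ^ f ≤ (q - 1) ^ f := Nat.pow_le_pow_left (by omega) _
        _ ≤ P := (hbig h).le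
        _ ≤ P ^ 2 := Nat.le_self_pow two_ne_zero _
  have hef : e ≤ 2 * f ^ 2 := (totient_sq_ge e (by omega)).1
  have hf55 : f < 55 := by
    by_contra h
    have h1 := pow_beats f (by omega)
    have : P ^ 2 ≤ 144 * f ^ 8 := by
      calc P ^ 2 ≤ (3 * e * e) ^ 2 := Nat.pow_le_pow_left hPle 2
        _ ≤ (3 * (2 * f ^ 2) * (2 * f ^ 2)) ^ 2 :=
            Nat.pow_le_pow_left (Nat.mul_le_mul (Nat.mul_le_mul_left 3 hef) hef) 2
        _ = _ := by ring
    omega
  have he6 : e < 6001 := by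
    have : f ^ 2 ≤ 54 ^ 2 := Nat.pow_le_pow_left (by omega) 2
    omega
  have hmany : many e e 55 = false := by
    by_contra h
    have := le_count_of_many e 55 (Bool.eq_true_of_not_eq_false h)
    rw [← Nat.totient_eq_card_coprime, ← hf] at this
    omega
  have hc := check_all
  simp only [List.all_eq_true, List.mem_range] at hc
  have hc' := hc e he6
  simp only [hmany, Bool.and_false, Bool.or_false, Bool.or_eq_true, Bool.and_eq_true, Nat.ble_eq,
    checkE, Bool.false_or, List.all_eq_true, List.mem_range, phiB_eq, ← hf] at hc'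
  rcases hc' with h | ⟨-, h⟩
  · omega
  have hq' : q < 2 * e + 2 := by
    rcases Nat.lt_or_ge q 3 with h3 | h3
    · omega
    · have h1 : (q - 1) ^ 2 ≤ (q - 1) ^ f := Nat.pow_le_pow_right (by omega) hf2
      have h2 : (q - 1) ^ 2 < (2 * e) ^ 2 := by
        have := hbig h3
        have : (2 * e) ^ 2 = 4 * (e * e) := by ring
        have : 3 * e * e = 3 * (e * e) := by ring
        omega
      have := (Nat.pow_lt_pow_iff_left two_ne_zero).mp h2
      omega
  rcases h q hq' with (h1 | h1) | h1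
  · omega
  · simp only [Bool.not_eq_true', beq_eq_false_iff_ne, ne_eq, Nat.blt_eq] at h1
    have := hbig (by omega)
    omega
  · simp only [goodPair, Bool.or_eq_true, List.contains_iff_mem, Bool.and_eq_true, Nat.ble_eq,
      decide_eq_true_eq, List.all_eq_true, List.mem_range, beq_iff_eq] at h1
    rcases h1 with h1 | ⟨⟨h1, h2⟩, h3⟩
    · exact hexc h1
    · exact hcon ⟨_, h2, fun i hi1 hie => (h3 i hie).resolve_left (by omega), h1⟩

/-- For the exceptional pairs every candidate is at most `2 e + 1`. -/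
theorem part_le_of_exc {q e : ℕ} (h : (q, e) ∈ excList) {m : ℕ} (hm : m ∣ q ^ e - 1)
    (hc : ∀ i : ℕ, 1 ≤ i → i < e → Nat.Coprime m (q ^ i - 1)) : m ≤ 2 * e + 1 := by
  have hd : m ∣ stripTo q e (e - 1) := dvd_stripTo hm _ fun i h1 h2 => hc i h1 (by omega)
  have hv := check_exc
  simp only [List.all_eq_true, Nat.ble_eq] at hv
  have h1 := hv _ h
  refine le_trans (Nat.le_of_dvd (Nat.pos_of_ne_zero fun h0 => ?_) hd) h1
  have : ((excList.all fun z => !(stripTo z.1 z.2 (z.2 - 1) == 0)) : Bool) = true := by decide +kernel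
  simp only [List.all_eq_true, Bool.not_eq_true', beq_eq_false_iff_ne] at this
  exact this _ h h0

/-- The form of Zsigmondy's theorem with a large or squared prime. -/
theorem large_primitive_prime (q n : ℕ) (hq : 2 ≤ q) (hn : 2 ≤ n)
    (h1 : ¬ (n = 2 ∧ ∃ s t : ℕ, t ≤ 1 ∧ q + 1 = 2 ^ s * 3 ^ t))
    (h2 : ¬ (q = 2 ∧ (n = 4 ∨ n = 6 ∨ n = 10 ∨ n = 12 ∨ n = 18)))
    (h3 : ¬ (q = 3 ∧ (n = 4 ∨ n = 6))) (h4 : ¬ (q = 5 ∧ n = 6)) :
    ∃ p : ℕ, p.Prime ∧ p ∣ q ^ n - 1 ∧ (∀ i : ℕ, 1 ≤ i → i < n → ¬ p ∣ q ^ i - 1) ∧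
      (n + 1 < p ∨ p ^ 2 ∣ q ^ n - 1) := by
  rcases Nat.lt_or_ge n 3 with hn3 | hn3
  · obtain rfl : n = 2 := by omega
    obtain ⟨p, hp, hpd, hp2, hp3⟩ : ∃ p, p.Prime ∧ p ∣ q + 1 ∧ p ≠ 2 ∧ (p = 3 → 9 ∣ q + 1) := by
      by_contra hcon
      push Not at hcon
      obtain ⟨s, m, hm2, hqm⟩ :=
        Nat.exists_eq_pow_mul_and_not_dvd (show q + 1 ≠ 0 by omega) 2 (by norm_num)
      have hm0 : m ≠ 0 := fun h => hm2 (h ▸ dvd_zero 2)
      have hall : ∀ p, p.Prime → p ∣ m → p = 3 := fun p hp hpm =>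
        (hcon p hp (hqm ▸ hpm.mul_left _) (fun h => hm2 (h ▸ hpm))).1
      obtain ⟨t, ht⟩ : ∃ t, m = 3 ^ t :=
        ⟨_, Nat.eq_prime_pow_of_unique_prime_dvd hm0 fun {p} hp hpm => hall p hp hpm⟩
      refine h1 ⟨rfl, s, t, ?_, by rw [hqm, ht]⟩
      by_contra hlt
      refine (hcon 3 Nat.prime_three (hqm ▸ (Dvd.dvd.mul_left ?_ _)) (by norm_num)).2 ?_
      · rw [ht]; exact dvd_pow_self 3 (by omega)
      · rw [hqm, ht, show 9 = 3 ^ 2 by norm_num]; exact (pow_dvd_pow 3 (by omega)).mul_left _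
    have hsq : q ^ 2 - 1 = (q + 1) * (q - 1) := by
      have := Nat.sq_sub_sq q 1
      rwa [one_pow] at this
    refine ⟨p, hp, hsq ▸ hpd.mul_right _, fun i hi hi2 => ?_, ?_⟩
    · obtain rfl : i = 1 := by omega
      rw [pow_one]
      intro hd
      have : p ∣ (q + 1) - (q - 1) := Nat.dvd_sub hpd hd
      rw [show q + 1 - (q - 1) = 2 by omega] at this
      exact hp2 ((Nat.prime_dvd_prime_iff_eq hp Nat.prime_two).mp this)
    · rcases eq_or_ne p 3 with rfl | hne
      · exact Or.inr (hsq ▸ (hp3 rfl).mul_right _)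
      · left
        have := hp.two_le
        omega
  · by_cases hexc : (q, n) ∈ excList
    · simp only [excList, List.mem_cons, Prod.mk.injEq, List.not_mem_nil, or_false] at hexc
      have key : ∀ p, p.Prime → p ∣ q ^ n - 1 → n + 1 < p →
          (∀ i < n, 1 ≤ i → ¬ p ∣ q ^ i - 1) →
          ∃ p : ℕ, p.Prime ∧ p ∣ q ^ n - 1 ∧ (∀ i : ℕ, 1 ≤ i → i < n → ¬ p ∣ q ^ i - 1) ∧
            (n + 1 < p ∨ p ^ 2 ∣ q ^ n - 1) :=
        fun p hp hd hlt hi => ⟨p, hp, hd, fun i a b => hi i b a, Or.inl hlt⟩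
      rcases hexc with ⟨rfl, rfl⟩ | ⟨rfl, rfl⟩ | ⟨rfl, rfl⟩ | ⟨rfl, rfl⟩ | ⟨rfl, rfl⟩ | ⟨rfl, rfl⟩ |
        ⟨rfl, rfl⟩ | ⟨rfl, rfl⟩ | ⟨rfl, rfl⟩ | ⟨rfl, rfl⟩ | ⟨rfl, rfl⟩ | ⟨rfl, rfl⟩ | ⟨rfl, rfl⟩
      · omega
      · omega
      · omega
      · omega
      · omega
      · omega
      · omega
      · omega
      · exact key 7 (by norm_num) (by norm_num) (by norm_num) (by decide)
      · exact key 17 (by norm_num) (by norm_num) (by norm_num) (by decide)
      · exact key 41 (by norm_num) (by norm_num) (by norm_num) (by decide)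
      · exact key 7 (by norm_num) (by norm_num) (by norm_num) (by decide)
      · exact key 13 (by norm_num) (by norm_num) (by norm_num) (by decide)
    · obtain ⟨m, hm, hc, hbig⟩ := exists_large_part hq hn3 hexc
      by_contra hcon
      push Not at hcon
      have hstep : ∀ p, p.Prime → p ∣ m → p = n + 1 ∧ ¬ p ^ 2 ∣ m := by
        intro p hp hpm
        have hprim : ∀ i, 1 ≤ i → i < n → ¬ p ∣ q ^ i - 1 := fun i a b hd =>
          hp.ne_one (Nat.Coprime.eq_one_of_dvd
            ((hc i a b).coprime_dvd_left hpm) hd)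
        have hle := hcon p hp (hpm.trans hm) hprim
        refine ⟨le_antisymm hle.1 ?_, fun h => hle.2 (h.trans hm)⟩
        haveI := Fact.mk hp
        have hqp : (q : ZMod p) ^ n = 1 := by
          have := hpm.trans hm
          rw [← ZMod.natCast_eq_zero_iff, Nat.cast_sub (Nat.one_le_pow _ _ (by omega)), Nat.cast_pow,
            Nat.cast_one, sub_eq_zero] at this
          exact this
        have hord : orderOf (q : ZMod p) = n := by
          refine (orderOf_eq_iff (by omega)).mpr ⟨hqp, fun i hi hi0 h => hprim i hi0 hi ?_⟩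
          rw [← ZMod.natCast_eq_zero_iff, Nat.cast_sub (Nat.one_le_pow _ _ (by omega)), Nat.cast_pow,
            Nat.cast_one, h, sub_self]
        have hne : (q : ZMod p) ≠ 0 := fun h => by
          rw [h, zero_pow (by omega)] at hqp
          exact zero_ne_one hqp
        have := Nat.le_of_dvd (by have := hp.two_le; omega)
          (orderOf_dvd_of_pow_eq_one (ZMod.pow_card_sub_one_eq_one hne))
        rw [hord] at this
        omega
      obtain ⟨p, hp, hpm⟩ := Nat.exists_prime_and_dvd (show m ≠ 1 by omega)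
      obtain ⟨c, hc'⟩ := hpm
      obtain ⟨hp1, hp2⟩ := hstep p hp ⟨c, hc'⟩
      rcases eq_or_ne c 1 with rfl | hc1
      · omega
      · obtain ⟨s, hs, hsc⟩ := Nat.exists_prime_and_dvd hc1
        obtain ⟨hs1, -⟩ := hstep s hs (hc' ▸ hsc.mul_left p)
        refine hp2 ?_
        rw [hc', pow_two]
        exact mul_dvd_mul_left p (show p ∣ c from hp1.trans hs1.symm ▸ hsc)

end CfsgLib.PrimitivePart
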