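import Mathlib

/-!
Computational part of the classification of pairs `(q, e)` with small primitive part of `q ^ e - 1`.
-/

namespace CfsgLib.PrimitivePart

/-- Divide `x` by its common factors with `g` (with fuel). -/
def stripOne (g : ℕ) : ℕ → ℕ → ℕ
  | 0, x => x
  | fuel + 1, x => if Nat.gcd x g == 1 then x else stripOne g fuel (x / Nat.gcd x g)

/-- Remove from `q ^ e - 1` everything in common with `q ^ i - 1`, `1 ≤ i ≤ k`. -/
def stripTo (q e : ℕ) : ℕ → ℕ
  | 0 => q ^ e - 1
  | i + 1 => stripOne (q ^ (i + 1) - 1) (e + 20) (stripTo q e i)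

/-- At least `need` residues among `0, …, k - 1` are prime to `e`. -/
def many (e : ℕ) : ℕ → ℕ → Bool
  | _, 0 => true
  | 0, _ + 1 => false
  | k + 1, need + 1 => if Nat.gcd e k == 1 then many e k need else many e k (need + 1)

/-- The thirteen exceptional pairs. -/
def excList : List (ℕ × ℕ) :=
  [(2, 6), (2, 4), (2, 10), (2, 12), (2, 18), (3, 4), (3, 6), (5, 6), (2, 3), (2, 8), (2, 20),
    (4, 3), (4, 6)]

/-- The stripped number is good: large and prime to all earlier `q ^ i - 1`. -/
def goodPair (q e : ℕ) : Bool :=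
  excList.contains (q, e) ||
    (Nat.ble (3 * e + 1) (stripTo q e (e - 1)) && (stripTo q e (e - 1) ∣ q ^ e - 1) &&
      ((List.range e).all fun i => i == 0 || Nat.gcd (stripTo q e (e - 1)) (q ^ i - 1) == 1))

/-- Euler's function. -/
def phiB (e : ℕ) : ℕ := (List.range e).countP fun k => Nat.gcd e k == 1

/-- All small pairs are good. -/
def checkE (e : ℕ) : Bool :=
  many e e 55 || (fun f => (List.range (2 * e + 2)).all fun q =>
    Nat.ble q 1 || (!(q == 2) && Nat.blt (3 * e * e) ((q - 1) ^ f)) || goodPair q e) (phiB e)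

theorem check_all : ((List.range 6001).all fun e => Nat.ble e 2 || (Nat.ble 211 e && many e e 55) ||
    (Nat.ble e 210 && checkE e)) = true := by
  decide +kernel

/-- The primitive part of an exceptional pair is at most `2 e + 1`. -/
theorem check_exc : (excList.all fun z => Nat.ble (stripTo z.1 z.2 (z.2 - 1)) (2 * z.2 + 1)) = true := by
  decide +kernel

end CfsgLib.PrimitivePart
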